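import Mathlib
import Groth.Prelude.Def_W4c5qllcourbesmultMultCrv

/-! The truncated polynomial ring `R[X]/(X^n)` as a Frobenius `R`-algebra. -/

universe u

noncomputable section

namespace MultCrvAux

open Polynomial

variable {R : Type u} [CommRing R] {n : ℕ}

/-- The coefficient of `z ^ j`, meaningful for `j < n`. -/
def cf (j : ℕ) : MultCrv.Rn R n →ₗ[R] R where
  toFun a := Quotient.liftOn' a (fun p : R[X] => if j < n then p.coeff j else 0) fun p q h => by
    split_ifs with hj
    · rw [Submodule.quotientRel_def] at h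
      obtain ⟨c, hc⟩ := Ideal.mem_span_singleton'.1 h
      have := congrArg (Polynomial.coeff · j) hc
      simp only [coeff_mul_X_pow', if_neg (not_le.2 hj), coeff_sub] at this
      exact sub_eq_zero.1 this.symm
    · rfl
  map_add' a b := by
    obtain ⟨p, rfl⟩ := Ideal.Quotient.mk_surjective a
    obtain ⟨q, rfl⟩ := Ideal.Quotient.mk_surjective b
    show (if j < n then (p + q).coeff j else 0) = (if j < n then p.coeff j else 0) + if j < n then q.coeff j else 0
    split_ifs <;> simp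
  map_smul' r a := by
    obtain ⟨p, rfl⟩ := Ideal.Quotient.mk_surjective a
    show (if j < n then (r • p).coeff j else 0) = r • if j < n then p.coeff j else 0
    split_ifs <;> simp

lemma cf_mk (j : ℕ) (hj : j < n) (p : R[X]) :
    cf j (Ideal.Quotient.mk (Ideal.span {(X : R[X]) ^ n}) p) = p.coeff j := if_pos hj

lemma z_pow (i : ℕ) : MultCrv.z R n ^ i = Ideal.Quotient.mk (Ideal.span {(X : R[X]) ^ n}) (X ^ i) :=
  (map_pow (Ideal.Quotient.mk (Ideal.span {(X : R[X]) ^ n})) X i).symm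

lemma z_pow_eq_zero {i : ℕ} (hi : n ≤ i) : MultCrv.z R n ^ i = 0 := by
  rw [z_pow, Ideal.Quotient.eq_zero_iff_mem, Ideal.mem_span_singleton]
  exact pow_dvd_pow _ hi

lemma ext_cf {a b : MultCrv.Rn R n} (h : ∀ j < n, cf j a = cf j b) : a = b := by
  obtain ⟨p, rfl⟩ := Ideal.Quotient.mk_surjective a
  obtain ⟨q, rfl⟩ := Ideal.Quotient.mk_surjective b
  rw [Ideal.Quotient.eq, Ideal.mem_span_singleton, X_pow_dvd_iff]
  intro d hd
  rw [coeff_sub, ← cf_mk d hd, ← cf_mk d hd, h d hd, sub_self]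

lemma cf_z_pow_mul (k j : ℕ) (hj : j < n) (a : MultCrv.Rn R n) :
    cf j (MultCrv.z R n ^ k * a) = if k ≤ j then cf (j - k) a else 0 := by
  obtain ⟨p, rfl⟩ := Ideal.Quotient.mk_surjective a
  rw [z_pow, ← map_mul, cf_mk j hj, mul_comm, coeff_mul_X_pow']
  split_ifs with h
  · rw [cf_mk _ (lt_of_le_of_lt (Nat.sub_le _ _) hj)]
  · rfl

lemma cf_z_pow (i j : ℕ) (hj : j < n) : cf j (MultCrv.z R n ^ i) = if j = i then (1 : R) else 0 := by
  rw [z_pow, cf_mk j hj, coeff_X_pow]

lemma cf_sum (c : ℕ → R) (j : ℕ) (hj : j < n) :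
    cf j (∑ i ∈ Finset.range n, c i • MultCrv.z R n ^ i) = c j := by
  rw [map_sum, Finset.sum_eq_single j]
  · rw [map_smul, cf_z_pow _ _ hj, if_pos rfl, smul_eq_mul, mul_one]
  · intro i _ hi
    rw [map_smul, cf_z_pow _ _ hj, if_neg (Ne.symm hi), smul_zero]
  · intro h; exact absurd (Finset.mem_range.2 hj) h

lemma eq_sum (a : MultCrv.Rn R n) : a = ∑ i ∈ Finset.range n, cf i a • MultCrv.z R n ^ i :=
  ext_cf fun j hj => (cf_sum (fun i => cf i a) j hj).symm

instance finite_Rn : Module.Finite R (MultCrv.Rn R n) := by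
  classical
  refine ⟨⟨(Finset.range n).image (fun i => MultCrv.z R n ^ i), eq_top_iff.2 fun a _ => ?_⟩⟩
  rw [eq_sum a]
  exact Submodule.sum_mem _ fun i hi =>
    Submodule.smul_mem _ _ (Submodule.subset_span (Finset.mem_coe.2 (Finset.mem_image_of_mem _ hi)))

variable {M : Type u} [AddCommGroup M] [Module (MultCrv.Rn R n) M] [Module R M]
  [IsScalarTower R (MultCrv.Rn R n) M]

lemma finite_R [Module.Finite (MultCrv.Rn R n) M] : Module.Finite R M :=
  Module.Finite.trans (MultCrv.Rn R n) M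

/-- The `Rn`-linear form attached to an `R`-linear form. -/
def ext (ℓ : M →ₗ[R] R) : M →ₗ[MultCrv.Rn R n] MultCrv.Rn R n where
  toFun m := ∑ i ∈ Finset.range n, ℓ (MultCrv.z R n ^ (n - 1 - i) • m) • MultCrv.z R n ^ i
  map_add' a b := by simp [smul_add, add_smul, Finset.sum_add_distrib]
  map_smul' c m := by
    simp only [RingHom.id_apply, smul_eq_mul]
    refine ext_cf fun j hj => ?_
    rw [cf_sum _ j hj]
    conv_rhs => rw [eq_sum c]
    rw [Finset.sum_mul, map_sum]
    conv_lhs => rw [eq_sum c, Finset.sum_smul, Finset.smul_sum, map_sum]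
    refine Finset.sum_congr rfl fun k _ => ?_
    rw [smul_mul_assoc, map_smul (cf j), cf_z_pow_mul k j hj, smul_comm, smul_assoc, map_smul ℓ, smul_smul (MultCrv.z R n ^ k), ← pow_add]
    split_ifs with hk
    · rw [cf_sum _ _ (by omega), show k + (n - 1 - j) = n - 1 - (j - k) by omega]
    · rw [z_pow_eq_zero (show n ≤ k + (n - 1 - j) by omega), zero_smul (MultCrv.Rn R n) m, map_zero]

lemma cf_ext (ℓ : M →ₗ[R] R) (m : M) (j : ℕ) (hj : j < n) :
    cf j (ext (n := n) ℓ m) = ℓ (MultCrv.z R n ^ (n - 1 - j) • m) := cf_sum _ j hj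

lemma top_ext (hn : 1 ≤ n) (ℓ : M →ₗ[R] R) (m : M) : cf (n - 1) (ext (n := n) ℓ m) = ℓ m := by
  rw [cf_ext ℓ m _ (by omega), Nat.sub_self, pow_zero, one_smul]

/-- The top coefficient of a form determines it. -/
def top (ψ : M →ₗ[MultCrv.Rn R n] MultCrv.Rn R n) : M →ₗ[R] R := (cf (n - 1)).comp (ψ.restrictScalars R)

lemma ext_top (ψ : M →ₗ[MultCrv.Rn R n] MultCrv.Rn R n) : ext (top ψ) = ψ := by
  refine LinearMap.ext fun m => ext_cf fun j hj => ?_
  rw [cf_ext _ m j hj]
  show cf (n - 1) (ψ (_ • m)) = _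
  rw [map_smul, smul_eq_mul, cf_z_pow_mul _ _ (by omega), if_pos (by omega),
    show n - 1 - (n - 1 - j) = j by omega]

section Domain

variable [IsDomain R] [IsPrincipalIdealRing R]

lemma isTorsionFree_Rn : Module.IsTorsionFree R (MultCrv.Rn R n) :=
  Module.IsTorsionFree.of_smul_eq_zero fun r a h => by
    by_cases hr : r = 0
    · exact Or.inl hr
    · refine Or.inr (ext_cf fun j _ => ?_)
      have := congrArg (cf j) h
      rw [map_smul, map_zero, smul_eq_mul] at this
      rw [map_zero]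
      exact (mul_eq_zero.1 this).resolve_left hr

lemma free_of_tf [Module.Finite (MultCrv.Rn R n) M] [Module.IsTorsionFree R M] : Module.Free R M := by
  have := finite_R (R := R) (n := n) (M := M)
  infer_instance

lemma eq_zero_of_forms [Module.Finite (MultCrv.Rn R n) M] [Module.IsTorsionFree R M] (hn : 1 ≤ n) (m : M)
    (h : ∀ ψ : M →ₗ[MultCrv.Rn R n] MultCrv.Rn R n, ψ m = 0) : m = 0 := by
  have := free_of_tf (R := R) (n := n) (M := M)
  refine (Module.forall_dual_apply_eq_zero_iff R m).1 fun ℓ => ?_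
  rw [← top_ext hn ℓ m, h, map_zero]

end Domain

end MultCrvAux
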