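import Mathlib
import Groth.Agent.Lib.MultCrv.Basic

/-! Torsion-free modules, filtrations, ranks and `Ext` over `R[X]/(X^n)`. -/

universe u

noncomputable section

namespace MultCrvAux

open CategoryTheory Abelian

variable {R : Type u} [CommRing R] {n : ℕ}
variable {M : Type u} [AddCommGroup M] [Module (MultCrv.Rn R n) M]

local notation "z₀" => MultCrv.z R n

lemma mem_filt {i : ℕ} {v : M} : v ∈ MultCrv.filt R n M i ↔ ∃ w : M, z₀ ^ i • w = v := Iff.rfl

lemma mem_filt2 {i : ℕ} {v : M} : v ∈ MultCrv.filt2 R n M i ↔ z₀ ^ i • v = 0 := Iff.rfl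

lemma filt2_mono {i j : ℕ} (h : i ≤ j) : MultCrv.filt2 R n M i ≤ MultCrv.filt2 R n M j := fun v hv => by
  rw [mem_filt2] at hv ⊢
  rw [← Nat.sub_add_cancel h, pow_add, mul_smul, hv, smul_zero]

lemma z_smul_zero {i : ℕ} (hi : n ≤ i) (v : M) : z₀ ^ i • v = 0 := by
  rw [z_pow_eq_zero hi]
  exact zero_smul (MultCrv.Rn R n) v

lemma pow_n_smul (v : M) : z₀ ^ n • v = 0 := z_smul_zero le_rfl v

/-- A nonzero vector has a nonzero multiple killed by `z`. -/
lemma exists_last {v : M} (hv : v ≠ 0) : ∃ k < n, z₀ ^ k • v ≠ 0 ∧ z₀ ^ (k + 1) • v = 0 := by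
  classical
  have h : ∃ k, z₀ ^ k • v = 0 := ⟨n, pow_n_smul v⟩
  have h0 : Nat.find h ≠ 0 := fun e => hv (by simpa [e] using Nat.find_spec h)
  obtain ⟨k, hk⟩ := Nat.exists_eq_succ_of_ne_zero h0
  refine ⟨k, ?_, Nat.find_min h (by omega), ?_⟩
  · have := Nat.find_le (h := h) (pow_n_smul v); omega
  · have := Nat.find_spec h; rwa [hk] at this

section scalar

variable [Module R M] [IsScalarTower R (MultCrv.Rn R n) M]

lemma smul_z (r : R) (k : ℕ) (v : M) : r • z₀ ^ k • v = z₀ ^ k • r • v := by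
  rw [← algebraMap_smul (MultCrv.Rn R n) r, ← algebraMap_smul (MultCrv.Rn R n) r v, smul_comm]

variable [IsDomain R] [IsPrincipalIdealRing R]

lemma tf_iff_filt2_one [Module.Finite (MultCrv.Rn R n) M] :
    Module.IsTorsionFree R M ↔ Module.Free R ↥(MultCrv.filt2 R n M 1) := by
  constructor
  · intro h
    have := free_of_tf (R := R) (n := n) (M := MultCrv.filt2 R n M 1)
    exact this
  · intro h
    refine Module.IsTorsionFree.of_smul_eq_zero fun r v hrv => ?_
    by_cases hv : v = 0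
    · exact Or.inr hv
    obtain ⟨k, -, hk, hk'⟩ := exists_last (R := R) (n := n) hv
    left
    have hmem : z₀ ^ k • v ∈ MultCrv.filt2 R n M 1 := by
      rw [mem_filt2, smul_smul, ← pow_add, add_comm]; exact hk'
    have e : r • (⟨_, hmem⟩ : MultCrv.filt2 R n M 1) = 0 := Subtype.ext (by
      show r • z₀ ^ k • v = 0
      rw [smul_z, hrv, smul_zero])
    exact (smul_eq_zero.1 e).resolve_right fun h' => hk (congrArg Subtype.val h')

lemma free_G2 [Module.Finite (MultCrv.Rn R n) M] [Module.IsTorsionFree R M] (i : ℕ) (hi : 1 ≤ i) :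
    Module.Free R (MultCrv.G2 R n M i) := by
  have : Module.IsTorsionFree R (MultCrv.G2 R n M i) := Module.IsTorsionFree.of_smul_eq_zero fun r x hx => by
    by_cases hr : r = 0
    · exact Or.inl hr
    obtain ⟨⟨v, hv⟩, rfl⟩ := Submodule.Quotient.mk_surjective _ x
    rw [← Submodule.Quotient.mk_smul, Submodule.Quotient.mk_eq_zero] at hx
    refine Or.inr ((Submodule.Quotient.mk_eq_zero _).2 ?_)
    change z₀ ^ (i - 1) • (r • v) = 0 at hx
    show z₀ ^ (i - 1) • v = 0
    rw [← smul_z] at hx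
    exact (smul_eq_zero.1 hx).resolve_left hr
  exact free_of_tf (R := R) (n := n)

lemma dualMap_surj {M' : Type u} [AddCommGroup M'] [Module (MultCrv.Rn R n) M']
    {M'' : Type u} [AddCommGroup M''] [Module (MultCrv.Rn R n) M''] [Module R M'']
    [IsScalarTower R (MultCrv.Rn R n) M''] [Module.Finite (MultCrv.Rn R n) M'']
    [Module.IsTorsionFree R M'']
    (f : M' →ₗ[MultCrv.Rn R n] M) (g : M →ₗ[MultCrv.Rn R n] M'')
    (hf : Function.Injective f) (hg : Function.Surjective g)
    (hfg : LinearMap.range f = LinearMap.ker g) : Function.Surjective f.dualMap := by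
  letI : Module R M' := Module.compHom M' (algebraMap R (MultCrv.Rn R n))
  haveI : IsScalarTower R (MultCrv.Rn R n) M' := ⟨fun r a m => by
    show (r • a) • m = algebraMap R (MultCrv.Rn R n) r • a • m
    have : r • a = algebraMap R (MultCrv.Rn R n) r * a := Algebra.smul_def r a
    rw [this, mul_smul]⟩
  have := free_of_tf (R := R) (n := n) (M := M'')
  obtain ⟨s, hs⟩ := Module.projective_lifting_property (g.restrictScalars R)
    (LinearMap.id : M'' →ₗ[R] M'') hg
  intro ψ
  have hs' : ∀ y, g (s y) = y := fun y => DFunLike.congr_fun hs y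
  have hmem : ∀ v : M, v - s (g v) ∈ LinearMap.range f := fun v => by
    rw [hfg, LinearMap.mem_ker, map_sub, hs', sub_self]
  choose p hp using hmem
  let P : M →ₗ[R] M' :=
    { toFun := p
      map_add' := fun a b => hf (by rw [map_add, hp, hp, hp, map_add g, map_add s]; abel)
      map_smul' := fun r a => hf (by
        rw [RingHom.id_apply]
        show f (p (r • a)) = f (algebraMap R (MultCrv.Rn R n) r • p a)
        rw [map_smul f, algebraMap_smul, hp, hp, LinearMap.map_smul_of_tower g, map_smul s, smul_sub]) }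
  have hPf : ∀ y, P (f y) = y := fun y => hf (by
    show f (p (f y)) = f y
    have : g (f y) = 0 := by rw [← LinearMap.mem_ker, ← hfg]; exact ⟨y, rfl⟩
    rw [hp, this, map_zero, sub_zero])
  refine ⟨ext (n := n) ((top ψ).comp P), ?_⟩
  refine (ext_top _).symm.trans (Eq.trans ?_ (ext_top ψ))
  congr 1
  ext y
  by_cases hn : 1 ≤ n
  · show cf (n - 1) (ext (n := n) ((top ψ).comp P) (f y)) = top ψ y
    rw [top_ext hn, LinearMap.comp_apply, hPf]
  · have : n = 0 := by omega
    subst this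
    show cf 0 (ext (n := 0) ((top ψ).comp P) (f y)) = top ψ y
    rw [show ext (n := 0) ((top ψ).comp P) (f y) = (0 : MultCrv.Rn R 0) from ext_cf (fun j hj => absurd hj (by omega)),
      show top ψ y = cf 0 (ψ y) from rfl,
      show ψ y = (0 : MultCrv.Rn R 0) from ext_cf (fun j hj => absurd hj (by omega))]

lemma reflexive_iff [Module.Finite (MultCrv.Rn R n) M] (hn : 1 ≤ n) :
    Module.IsReflexive (MultCrv.Rn R n) M ↔ Module.IsTorsionFree R M := by
  constructor
  · intro h
    refine Module.IsTorsionFree.of_smul_eq_zero fun r v hrv => ?_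
    by_cases hr : r = 0
    · exact Or.inl hr
    refine Or.inr ((Module.bijective_dual_eval (MultCrv.Rn R n) M).1 ?_)
    refine LinearMap.ext fun ψ => ?_
    rw [map_zero]
    show ψ v = 0
    have := isTorsionFree_Rn (R := R) (n := n)
    have e : r • ψ v = 0 := by rw [← LinearMap.map_smul_of_tower, hrv, map_zero]
    exact (smul_eq_zero.1 e).resolve_left hr
  · intro h
    have := free_of_tf (R := R) (n := n) (M := M)
    have := finite_R (R := R) (n := n) (M := M)
    refine ⟨fun a b hab => sub_eq_zero.1 (eq_zero_of_forms (R := R) (M := M) hn _ fun ψ => ?_), fun Φ => ?_⟩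
    · rw [map_sub, sub_eq_zero]; exact DFunLike.congr_fun hab ψ
    · let L : (M →ₗ[R] R) →ₗ[R] R :=
        { toFun := fun ℓ => cf (n - 1) (Φ (ext ℓ))
          map_add' := fun a b => by
            rw [← map_add]
            congr 1
            rw [← map_add]
            congr 1
            refine LinearMap.ext fun v => ext_cf fun j hj => ?_
            simp [cf_ext _ _ j hj]
          map_smul' := fun r a => by
            rw [RingHom.id_apply, ← map_smul, ← LinearMap.map_smul_of_tower Φ]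
            congr 2
            refine LinearMap.ext fun v => ext_cf fun j hj => ?_
            simp [cf_ext _ _ j hj] }
      obtain ⟨v, hv⟩ := (Module.bijective_dual_eval R M).2 L
      have key : ∀ ψ : M →ₗ[MultCrv.Rn R n] MultCrv.Rn R n, cf (n - 1) (Φ ψ) = cf (n - 1) (ψ v) := fun ψ => by
        have : top ψ v = L (top ψ) := DFunLike.congr_fun hv (top ψ)
        rw [show L (top ψ) = cf (n - 1) (Φ (ext (top ψ))) from rfl, ext_top] at this
        exact this.symm
      refine ⟨v, LinearMap.ext fun ψ => ext_cf fun j hj => ?_⟩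
      show cf j (ψ v) = cf j (Φ ψ)
      have := key (z₀ ^ (n - 1 - j) • ψ)
      rw [map_smul, LinearMap.smul_apply, smul_eq_mul, smul_eq_mul, cf_z_pow_mul _ _ (by omega),
        cf_z_pow_mul _ _ (by omega), if_pos (by omega : n - 1 - j ≤ n - 1),
        if_pos (by omega : n - 1 - j ≤ n - 1), show n - 1 - (n - 1 - j) = j by omega] at this
      exact this.symm

/-- Retraction criterion: if all `R`-forms of a submodule of a finite free module extend,
the quotient is torsion free. -/
lemma tf_of_forms_extend {r : ℕ} (π : (Fin r → MultCrv.Rn R n) →ₗ[MultCrv.Rn R n] M)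
    (hπ : Function.Surjective π)
    (hext : ∀ ℓ : ↥(LinearMap.ker π) →ₗ[R] R, ∃ L : (Fin r → MultCrv.Rn R n) →ₗ[R] R,
      ∀ y : ↥(LinearMap.ker π), L y = ℓ y) : Module.IsTorsionFree R M := by
  have := isTorsionFree_Rn (R := R) (n := n)
  have : Module.Free R ↥(LinearMap.ker π) := free_of_tf (R := R) (n := n)
  let b := Module.Free.chooseBasis R ↥(LinearMap.ker π)
  have : Module.Finite R ↥(LinearMap.ker π) := finite_R (R := R) (n := n)
  choose L hL using fun i => hext (b.coord i)
  let ρ : (Fin r → MultCrv.Rn R n) →ₗ[R] ↥(LinearMap.ker π) := ∑ i, (L i).smulRight (b i)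
  have hρ : ∀ y : ↥(LinearMap.ker π), ρ y = y := fun y => by
    simp [ρ, LinearMap.sum_apply, hL, b.sum_repr]
  refine Module.IsTorsionFree.of_smul_eq_zero fun a v hav => ?_
  by_cases ha : a = 0
  · exact Or.inl ha
  right
  obtain ⟨w, rfl⟩ := hπ v
  have hk : a • w ∈ LinearMap.ker π := by rw [LinearMap.mem_ker, LinearMap.map_smul_of_tower, hav]
  have e : a • (ρ w : Fin r → MultCrv.Rn R n) = a • w := by
    have := congrArg Subtype.val (hρ ⟨a • w, hk⟩)
    rwa [map_smul] at this
  rw [← smul_right_injective (Fin r → MultCrv.Rn R n) ha e]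
  exact (ρ w).2

/-- `z ^ (n-1)` factors through a finite free module on a torsion free module. -/
lemma factor_free [Module.Finite (MultCrv.Rn R n) M] [Module.IsTorsionFree R M] (hn : 1 ≤ n) :
    ∃ (c : ℕ) (a : M →ₗ[MultCrv.Rn R n] (Fin c → MultCrv.Rn R n))
      (b : (Fin c → MultCrv.Rn R n) →ₗ[MultCrv.Rn R n] M), ∀ v, b (a v) = z₀ ^ (n - 1) • v := by
  -- an `R`-linear projection whose kernel is the part killed by `z ^ (n-1)`
  let μ : M →ₗ[R] M := ((z₀ ^ (n - 1)) • (LinearMap.id : M →ₗ[MultCrv.Rn R n] M)).restrictScalars R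
  have hμ : ∀ v, μ v = z₀ ^ (n - 1) • v := fun _ => rfl
  have := finite_R (R := R) (n := n) (M := M)
  obtain ⟨c, bc⟩ := Submodule.basisOfPid (Module.Free.chooseBasis R M) (LinearMap.range μ)
  choose e he using fun i => (bc i).2
  refine ⟨c, LinearMap.pi fun i => ext (n := n) ((bc.coord i).comp μ.rangeRestrict),
    LinearMap.lsum (MultCrv.Rn R n) (fun _ => MultCrv.Rn R n) (MultCrv.Rn R n)
      (fun i => LinearMap.toSpanSingleton (MultCrv.Rn R n) M (e i)), fun v => ?_⟩
  have h1 : ∀ i, (ext (n := n) ((bc.coord i).comp μ.rangeRestrict) v) • e i =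
      bc.repr (μ.rangeRestrict v) i • μ (e i) := by
    intro i
    set a := ext (n := n) ((bc.coord i).comp μ.rangeRestrict) v with hadef
    have ha : ∀ j < n, j ≠ n - 1 → cf j a = 0 := fun j hj hj' => by
      rw [hadef, cf_ext _ _ j hj, LinearMap.comp_apply]
      have : μ.rangeRestrict (z₀ ^ (n - 1 - j) • v) = 0 := Subtype.ext (by
        show μ _ = 0
        rw [hμ, smul_smul, ← pow_add, z_smul_zero (by omega)])
      rw [this, map_zero]
    conv_lhs => rw [eq_sum a]
    rw [Finset.sum_smul, Finset.sum_eq_single (n - 1)]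
    · rw [smul_assoc, hadef, top_ext hn, hμ]; rfl
    · intro j hj hj'
      rw [ha j (Finset.mem_range.1 hj) hj', zero_smul R]
      exact zero_smul (MultCrv.Rn R n) (e i)
    · intro h; exact absurd (Finset.mem_range.2 (by omega)) h
  simp only [LinearMap.lsum_apply, LinearMap.sum_apply, LinearMap.comp_apply, LinearMap.proj_apply,
    LinearMap.pi_apply, LinearMap.toSpanSingleton_apply, h1]
  have h2 := congrArg Subtype.val (bc.sum_repr (μ.rangeRestrict v))
  simp only [AddSubmonoidClass.coe_finsetSum, Submodule.coe_smul] at h2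
  simp only [he]
  exact h2

lemma finrank_G [Module.Finite (MultCrv.Rn R n) M] (i : ℕ) :
    Module.finrank R (MultCrv.G2 R n M (i + 1)) = Module.finrank R (MultCrv.G1 R n M i) := by
  have := finite_R (R := R) (n := n) (M := M)
  have hsub : ∀ (P Q : Submodule (MultCrv.Rn R n) M), Q ≤ P →
      Module.finrank R (↥P ⧸ Q.comap P.subtype) + Module.finrank R Q = Module.finrank R P := by
    intro P Q h
    have : Module.Finite R P := finite_R (R := R) (n := n)
    have h1 := ((Q.comap P.subtype).restrictScalars R).finrank_quotient_add_finrank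
    rw [((Submodule.comapSubtypeEquivOfLe h).restrictScalars R).finrank_eq.symm,
      ← (Submodule.Quotient.restrictScalarsEquiv R (Q.comap P.subtype)).finrank_eq]
    exact h1
  have hker : ∀ j, Module.finrank R (MultCrv.filt R n M j) + Module.finrank R (MultCrv.filt2 R n M j) =
      Module.finrank R M := fun j => by
    let μ : M →ₗ[R] M := ((z₀ ^ j) • (LinearMap.id : M →ₗ[MultCrv.Rn R n] M)).restrictScalars R
    have h1 := (LinearMap.ker μ).finrank_quotient_add_finrank
    rw [μ.quotKerEquivRange.finrank_eq] at h1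
    exact h1
  have a := hsub _ _ (filt2_mono (R := R) (n := n) (M := M) (show i ≤ i + 1 by omega))
  have hle : MultCrv.filt R n M (i + 1) ≤ MultCrv.filt R n M i := fun v hv => by
    obtain ⟨w, rfl⟩ := mem_filt.1 hv
    exact mem_filt.2 ⟨z₀ • w, by rw [smul_smul, ← pow_succ]⟩
  have b := hsub _ _ hle
  have c := hker i
  have d := hker (i + 1)
  have e : Module.finrank R (MultCrv.G2 R n M (i + 1)) + Module.finrank R (MultCrv.filt2 R n M i) =
      Module.finrank R (MultCrv.filt2 R n M (i + 1)) := a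
  have e' : Module.finrank R (MultCrv.G1 R n M i) + Module.finrank R (MultCrv.filt R n M (i + 1)) =
      Module.finrank R (MultCrv.filt R n M i) := b
  omega

lemma tf_G1_iff (i : ℕ) : Module.IsTorsionFree R (MultCrv.G1 R n M i) ↔
    ∀ (r : R) (u : M), r ≠ 0 → r • z₀ ^ i • u ∈ MultCrv.filt R n M (i + 1) →
      z₀ ^ i • u ∈ MultCrv.filt R n M (i + 1) := by
  constructor
  · intro h r u hr hu
    have hm : z₀ ^ i • u ∈ MultCrv.filt R n M i := mem_filt.2 ⟨u, rfl⟩
    have e : r • (Submodule.Quotient.mk ⟨_, hm⟩ : MultCrv.G1 R n M i) = 0 := by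
      rw [← Submodule.Quotient.mk_smul, Submodule.Quotient.mk_eq_zero]; exact hu
    exact (Submodule.Quotient.mk_eq_zero _ (x := (⟨_, hm⟩ : ↥(MultCrv.filt R n M i)))).1 ((smul_eq_zero.1 e).resolve_left hr)
  · intro h
    refine Module.IsTorsionFree.of_smul_eq_zero fun r x hx => ?_
    by_cases hr : r = 0
    · exact Or.inl hr
    obtain ⟨⟨v, hv⟩, rfl⟩ := Submodule.Quotient.mk_surjective _ x
    obtain ⟨u, rfl⟩ := mem_filt.1 hv
    rw [← Submodule.Quotient.mk_smul, Submodule.Quotient.mk_eq_zero] at hx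
    exact Or.inr ((Submodule.Quotient.mk_eq_zero _).2 (h r u hr hx))

lemma gam_mk_eq_zero (i : ℕ) (u : ↥(MultCrv.filt2 R n M (i + 1))) :
    (Submodule.Quotient.mk (Submodule.Quotient.mk u) : MultCrv.Gam2 R n M i) = 0 ↔
      z₀ ^ i • (u : M) ∈ MultCrv.filt R n M (i + 1) := by
  rw [Submodule.Quotient.mk_eq_zero]
  constructor
  · rintro ⟨w, hw⟩
    obtain ⟨w, rfl⟩ := Submodule.Quotient.mk_surjective _ w
    have h2 := (Submodule.Quotient.eq _).1 hw
    change z₀ ^ i • (z₀ • (w : M) - (u : M)) = 0 at h2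
    rw [smul_sub, sub_eq_zero, smul_smul, ← pow_succ] at h2
    exact mem_filt.2 ⟨w, h2⟩
  · intro h
    obtain ⟨w, hw⟩ := mem_filt.1 h
    have hw2 : w ∈ MultCrv.filt2 R n M (i + 2) := by
      rw [mem_filt2, show z₀ ^ (i + 2) • w = z₀ • z₀ ^ (i + 1) • w by rw [smul_smul, ← pow_succ'],
        hw, smul_smul, ← pow_succ']
      exact mem_filt2.1 u.2
    refine ⟨Submodule.Quotient.mk ⟨w, hw2⟩, (Submodule.Quotient.eq _).2 ?_⟩
    show z₀ ^ i • (z₀ • w - (u : M)) = 0
    rw [smul_sub, smul_smul, ← pow_succ, hw, sub_self]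

lemma tf_Gam_iff (i : ℕ) : Module.IsTorsionFree R (MultCrv.Gam2 R n M i) ↔
    ∀ (r : R) (u : M), r ≠ 0 → z₀ ^ (i + 1) • u = 0 → r • z₀ ^ i • u ∈ MultCrv.filt R n M (i + 1) →
      z₀ ^ i • u ∈ MultCrv.filt R n M (i + 1) := by
  constructor
  · intro h r u hr hu hmem
    have e : r • (Submodule.Quotient.mk (Submodule.Quotient.mk ⟨u, hu⟩) : MultCrv.Gam2 R n M i) = 0 := by
      rw [← Submodule.Quotient.mk_smul, ← Submodule.Quotient.mk_smul, gam_mk_eq_zero]
      show z₀ ^ i • (r • u) ∈ _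
      rwa [← smul_z]
    exact (gam_mk_eq_zero i ⟨u, hu⟩).1 ((smul_eq_zero.1 e).resolve_left hr)
  · intro h
    refine Module.IsTorsionFree.of_smul_eq_zero fun r x hx => ?_
    by_cases hr : r = 0
    · exact Or.inl hr
    obtain ⟨y, rfl⟩ := Submodule.Quotient.mk_surjective _ x
    obtain ⟨⟨u, hu⟩, rfl⟩ := Submodule.Quotient.mk_surjective _ y
    rw [← Submodule.Quotient.mk_smul, ← Submodule.Quotient.mk_smul, gam_mk_eq_zero] at hx
    refine Or.inr ((gam_mk_eq_zero i ⟨u, hu⟩).2 (h r u hr hu ?_))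
    rw [smul_z]; exact hx

lemma free_G1_iff [Module.Finite (MultCrv.Rn R n) M] :
    (∀ i : ℕ, i < n → Module.Free R (MultCrv.G1 R n M i)) ↔
      (∀ i : ℕ, i < n → Module.Free R (MultCrv.Gam2 R n M i)) := by
  constructor
  · intro h i hi
    have := h i hi
    have := (tf_Gam_iff (R := R) (n := n) (M := M) i).2 fun r u hr _ hm =>
      (tf_G1_iff i).1 inferInstance r u hr hm
    exact free_of_tf (R := R) (n := n)
  · intro h i hi
    have key : ∀ k i, i + k = n → ∀ (r : R) (u : M), r ≠ 0 →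
        r • z₀ ^ i • u ∈ MultCrv.filt R n M (i + 1) → z₀ ^ i • u ∈ MultCrv.filt R n M (i + 1) := by
      intro k
      induction k with
      | zero =>
        intro i hi r u _ _
        rw [z_smul_zero (by omega : n ≤ i)]
        exact zero_mem _
      | succ k ih =>
        intro i hi r u hr hm
        obtain ⟨w, hw⟩ := mem_filt.1 hm
        have h1 : r • z₀ ^ (i + 1) • u ∈ MultCrv.filt R n M (i + 2) := mem_filt.2 ⟨w, by
          rw [smul_z] at hw
          rw [smul_z, pow_succ' z₀ (i + 1), mul_smul, hw, smul_smul, ← pow_succ']⟩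
        obtain ⟨v, hv⟩ := mem_filt.1 (ih (i + 1) (by omega) r u hr h1)
        have h2 : z₀ ^ (i + 1) • (u - z₀ • v) = 0 := by
          rw [smul_sub, smul_smul, ← pow_succ, hv, sub_self]
        have h3 : r • z₀ ^ i • (u - z₀ • v) ∈ MultCrv.filt R n M (i + 1) := by
          rw [smul_sub, smul_sub]
          refine sub_mem hm (mem_filt.2 ⟨r • v, ?_⟩)
          rw [smul_smul (z₀ ^ i), ← pow_succ, smul_z]
        have := h i (by omega)
        have h4 := (tf_Gam_iff (R := R) (n := n) (M := M) i).1 inferInstance r _ hr h2 h3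
        rw [smul_sub, smul_smul, ← pow_succ] at h4
        have := add_mem h4 (mem_filt.2 ⟨v, rfl⟩ : z₀ ^ (i + 1) • v ∈ MultCrv.filt R n M (i + 1))
        simpa using this
    have := (tf_G1_iff (R := R) (n := n) (M := M) i).2 (key (n - i) i (by omega))
    exact free_of_tf (R := R) (n := n)

end scalar

/-! ### `Ext` -/

section Ext

variable [IsDomain R] [IsPrincipalIdealRing R]

local notation "A₀" => MultCrv.Rn R n

lemma ext_one_zero [Module R M] [IsScalarTower R A₀ M] [Module.Finite A₀ M] [Module.IsTorsionFree R M]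
    (x : Ext (ModuleCat.of A₀ M) (ModuleCat.of A₀ A₀) 1) : x = 0 := by
  obtain ⟨r, π, hπ⟩ := Module.Finite.exists_fin' A₀ M
  have hS := LinearMap.shortExact_shortComplexKer hπ
  haveI : Projective π.shortComplexKer.X₂ := inferInstanceAs (Projective (ModuleCat.of A₀ (Fin r → A₀)))
  obtain ⟨x₁, rfl⟩ := Ext.contravariant_sequence_exact₃ hS _ x (Ext.eq_zero_of_projective _) (n₀ := 0) rfl
  obtain ⟨g, rfl⟩ := (Ext.mk₀_bijective _ _).2 x₁
  haveI := isTorsionFree_Rn (R := R) (n := n)
  obtain ⟨h, hh⟩ := dualMap_surj (R := R) (n := n) (LinearMap.ker π).subtype π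
    (LinearMap.ker π).injective_subtype hπ (Submodule.range_subtype _) g.hom
  have hg : g = π.shortComplexKer.f ≫ ModuleCat.ofHom h := by
    ext1
    exact hh.symm
  rw [hg, ← Ext.mk₀_comp_mk₀, hS.extClass_comp_assoc]

lemma ext_zero : ∀ (i : ℕ) (M : Type u) [AddCommGroup M] [Module A₀ M] [Module R M]
    [IsScalarTower R A₀ M] [Module.Finite A₀ M] [Module.IsTorsionFree R M]
    (x : Ext (ModuleCat.of A₀ M) (ModuleCat.of A₀ A₀) (i + 1)), x = 0
  | 0, M, _, _, _, _, _, _, x => ext_one_zero x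
  | i + 1, M, _, _, _, _, _, _, x => by
    obtain ⟨r, π, hπ⟩ := Module.Finite.exists_fin' A₀ M
    have hS := LinearMap.shortExact_shortComplexKer hπ
    haveI : Projective π.shortComplexKer.X₂ := inferInstanceAs (Projective (ModuleCat.of A₀ (Fin r → A₀)))
    haveI := isTorsionFree_Rn (R := R) (n := n)
    obtain ⟨x₁, rfl⟩ := Ext.contravariant_sequence_exact₃ hS _ x (Ext.eq_zero_of_projective _)
      (n₀ := i + 1) (by omega)
    rw [ext_zero i (↥(LinearMap.ker π)) x₁, Ext.comp_zero]

lemma ext_zero_two [Module.Finite A₀ M] (i : ℕ)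
    (x : Ext (ModuleCat.of A₀ M) (ModuleCat.of A₀ A₀) (i + 2)) : x = 0 := by
  obtain ⟨r, π, hπ⟩ := Module.Finite.exists_fin' A₀ M
  have hS := LinearMap.shortExact_shortComplexKer hπ
  haveI : Projective π.shortComplexKer.X₂ := inferInstanceAs (Projective (ModuleCat.of A₀ (Fin r → A₀)))
  haveI := isTorsionFree_Rn (R := R) (n := n)
  obtain ⟨x₁, rfl⟩ := Ext.contravariant_sequence_exact₃ hS _ x (Ext.eq_zero_of_projective _)
    (n₀ := i + 1) (by omega)
  rw [ext_zero (R := R) (n := n) i (↥(LinearMap.ker π)) x₁, Ext.comp_zero]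

lemma tf_of_ext_one [Module R M] [IsScalarTower R A₀ M] [Module.Finite A₀ M] (hn : 1 ≤ n)
    (h : Subsingleton (Ext (ModuleCat.of A₀ M) (ModuleCat.of A₀ A₀) 1)) :
    Module.IsTorsionFree R M := by
  obtain ⟨r, π, hπ⟩ := Module.Finite.exists_fin' A₀ M
  have hS := LinearMap.shortExact_shortComplexKer hπ
  refine tf_of_forms_extend (R := R) π hπ fun ℓ => ?_
  let g : π.shortComplexKer.X₁ ⟶ ModuleCat.of A₀ A₀ := ModuleCat.ofHom (ext (n := n) ℓ)
  obtain ⟨x₂, hx₂⟩ := Ext.contravariant_sequence_exact₁ hS _ (Ext.mk₀ g) (n₁ := 1) rfl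
    (@Subsingleton.elim _ h _ _)
  obtain ⟨H, rfl⟩ := (Ext.mk₀_bijective _ _).2 x₂
  rw [Ext.mk₀_comp_mk₀] at hx₂
  have e := (Ext.mk₀_bijective _ _).1 hx₂
  refine ⟨top (n := n) H.hom, fun y => ?_⟩
  have e2 : H.hom (y : Fin r → A₀) = ext (n := n) ℓ y := congrArg (fun f => f.hom y) e
  show cf (n - 1) (H.hom (y : Fin r → A₀)) = _
  rw [e2, top_ext hn]

lemma smul_ext_of_tf [Module R M] [IsScalarTower R A₀ M] [Module.Finite A₀ M] [Module.IsTorsionFree R M]
    (hn : 1 ≤ n) {N : Type u} [AddCommGroup N] [Module A₀ N] (i : ℕ)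
    (x : Ext (ModuleCat.of A₀ M) (ModuleCat.of A₀ N) (i + 1)) : (z₀ ^ (n - 1)) • x = 0 := by
  obtain ⟨c, a, b, hab⟩ := factor_free (R := R) (n := n) (M := M) hn
  have e : (z₀ ^ (n - 1)) • x =
      (Ext.mk₀ ((z₀ ^ (n - 1)) • 𝟙 (ModuleCat.of A₀ M))).comp x (zero_add _) := by
    rw [Ext.mk₀_smul (C := ModuleCat A₀) (z₀ ^ (n - 1)) (𝟙 (ModuleCat.of A₀ M)), Ext.smul_comp, Ext.mk₀_id_comp]
  have e2 : (z₀ ^ (n - 1)) • 𝟙 (ModuleCat.of A₀ M) = ModuleCat.ofHom a ≫ ModuleCat.ofHom b := by
    ext v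
    exact (hab v).symm
  haveI : Projective (ModuleCat.of A₀ (Fin c → A₀)) := inferInstance
  rw [e, e2, ← Ext.mk₀_comp_mk₀, Ext.comp_assoc_of_second_deg_zero,
    Ext.eq_zero_of_projective ((Ext.mk₀ (ModuleCat.ofHom b)).comp x (zero_add _)), Ext.comp_zero]

lemma smul_ext_two [Module.Finite A₀ M] (hn : 1 ≤ n) {N : Type u} [AddCommGroup N] [Module A₀ N] (i : ℕ)
    (x : Ext (ModuleCat.of A₀ M) (ModuleCat.of A₀ N) (i + 2)) : (z₀ ^ (n - 1)) • x = 0 := by
  obtain ⟨r, π, hπ⟩ := Module.Finite.exists_fin' A₀ M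
  have hS := LinearMap.shortExact_shortComplexKer hπ
  haveI : Projective π.shortComplexKer.X₂ := inferInstanceAs (Projective (ModuleCat.of A₀ (Fin r → A₀)))
  haveI := isTorsionFree_Rn (R := R) (n := n)
  obtain ⟨x₁, rfl⟩ := Ext.contravariant_sequence_exact₃ hS _ x (Ext.eq_zero_of_projective _)
    (n₀ := i + 1) (by omega)
  rw [← Ext.comp_smul, smul_ext_of_tf (R := R) hn i x₁, Ext.comp_zero]

end Ext

end MultCrvAux
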